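import Cfsg.Agent.Lib.Lie.Chev.Tw.TwoGen.Base
import Cfsg.Agent.Lib.Lie.Chev.Tw.Out.CaseD4

/-!
# ³D₄(q) is generated by two elements
-/

set_option autoImplicit false
set_option maxRecDepth 100000

namespace CfsgLib.Lie.Chev

open Cfsg.Lie
open scoped MatrixGroups

namespace TD4

variable {K : Type*} [Field K]

/-- a word for a Coxeter element of the twisted Weyl group -/
def coxW : List (Fin chevD4.rank) := [nd 1, nd 0, nd 2, nd 3]

theorem coxW_val : coxW.map Fin.val = [1, 0, 2, 3] := rfl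

theorem nU_eq (i : Fin chevD4.rank) : C.G.nE (C.G.simp' i) (1 : K) = C.G.nU i := by
  simp [Good.nE, Good.nU]

theorem three_comm {G : Type*} [Group G] {a1 a2 a3 b1 b2 b3 c1 c2 c3 : G}
    (e1 : b1 * a1 = a1 * b1 * c1) (e2 : b2 * a2 = a2 * b2 * c2) (e3 : b3 * a3 = a3 * b3 * c3)
    (h21 : Commute b2 a1) (h31 : Commute b3 a1) (h12 : Commute b1 a2) (h32 : Commute b3 a2)
    (h13 : Commute b1 a3) (h23 : Commute b2 a3)
    (d12 : Commute c1 b2) (d13 : Commute c1 b3) (d23 : Commute c2 b3)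
    (d2 : Commute c1 a2) (d3 : Commute c1 a3) (d3' : Commute c2 a3) :
    b1 * b2 * b3 * (a1 * a2 * a3) = a1 * a2 * a3 * (b1 * b2 * b3) * (c1 * c2 * c3) := by
  calc b1 * b2 * b3 * (a1 * a2 * a3)
      = (b1 * a1) * (b2 * a2) * (b3 * a3) := by
        simp only [mul_assoc]
        rw [← mul_assoc b3 a1, h31.eq, mul_assoc a1, ← mul_assoc b2 a1, h21.eq, mul_assoc a1,
          ← mul_assoc b3 a2, h32.eq, mul_assoc a2]
    _ = a1 * b1 * a2 * (c1 * b2) * c2 * a3 * b3 * c3 := by
        rw [e1, e2, e3]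
        simp only [mul_assoc]
        rw [← mul_assoc c1 a2, d2.eq, mul_assoc a2]
    _ = a1 * a2 * b1 * b2 * (c1 * c2 * a3) * b3 * c3 := by
        rw [d12.eq, mul_assoc a1 b1, h12.eq]
        simp only [mul_assoc]
    _ = a1 * a2 * (b1 * b2 * a3) * (c1 * c2 * b3) * c3 := by
        rw [(d3.mul_left d3').eq]
        simp only [mul_assoc]
    _ = _ := by
        rw [(h13.mul_left h23).eq, (d13.mul_left d23).eq]
        simp only [mul_assoc]

theorem two_gen [Fintype K] {q : ℕ} (hq : IsPrimePow q) (hK : Fintype.card K = q ^ 3) :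
    ∃ a b : ↥(twistedD4 K q), Subgroup.closure ({a, b} : Set ↥(twistedD4 K q)) = ⊤ := by
  classical
  obtain ⟨θ, hθ⟩ := Frob.exists_powEquiv (K := K) hq hK
  have h3 : ∀ t : K, θ (θ (θ t)) = t := h3_of θ hθ hK
  have P := twGp θ hθ h3
  let Q := twPar θ hθ h3
  obtain ⟨k, hk⟩ := IsCyclic.exists_generator (α := Kˣ)
  have hord : orderOf k = q ^ 3 - 1 := by
    rw [orderOf_eq_card_of_forall_mem_zpowers hk, Nat.card_units, Nat.card_eq_fintype_card, hK]
  have h1q : 1 < q := hq.one_lt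
  have hq2 : q ^ 2 * 2 ≤ q ^ 3 := by rw [pow_succ q 2]; exact Nat.mul_le_mul_left _ h1q
  have hq4 : 4 ≤ q ^ 2 := by nlinarith
  have hqq : q + 2 ≤ q ^ 2 := by nlinarith
  set h := C.G.torθ (par θ 1 k) with hh
  have hhd : h ∈ chevD4.diagonalSubgroup K := (C.G.diagonal_eq_range (K := K)).symm ▸ ⟨_, rfl⟩
  have hhΓ : h ∈ twistedD4 K q :=
    P.H_le ((twist θ).torθ_mem_Fix (par_fixed θ h3 (by rw [Units.val_one, map_one])))
  set n := C.G.nw (K := K) coxW with hn
  have hnΓ : n ∈ twistedD4 K q := by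
    have h0 := TwTwoGen.pM_mem Q o0
    have h1 := TwTwoGen.pM_mem Q o1
    rw [C.pM_eq (Q.orth o0)] at h0
    rw [C.pM_eq (Q.orth o1)] at h1
    simp only [Q, twPar, outL_zero, outL_one, List.map_cons, List.map_nil, List.prod_cons,
      List.prod_nil, mul_one, map_one, nU_eq] at h0 h1
    have := mul_mem h0 h1
    simpa [hn, coxW, Good.nw, mul_assoc] using this
  set x := C.pP (Q.L o1) (1 : K) with hx
  have hxΓ : x ∈ twistedD4 K q := Q.mem_pos o1 1 (one_mem _)
  refine ⟨⟨h, hhΓ⟩, ⟨x * n, mul_mem hxΓ hnΓ⟩, TwTwoGen.top_of_orbits Q _ _ ?_⟩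
  set S := Subgroup.closure ({h, x * n} : Set (GL chevD4.Idx K))
  have hhS : h ∈ S := Subgroup.subset_closure (Set.mem_insert _ _)
  have hbS : x * n ∈ S := Subgroup.subset_closure (Set.mem_insert_of_mem _ rfl)
  have hu : (Finset.univ : Finset (Fin chevD4.rank)) = {nd 0, nd 1, nd 2, nd 3} := by decide +kernel
  have hd : (nd 0 : Fin chevD4.rank) ∉ ({nd 1, nd 2, nd 3} : Finset _) ∧
      (nd 1 : Fin chevD4.rank) ∉ ({nd 2, nd 3} : Finset _) ∧
      (nd 2 : Fin chevD4.rank) ∉ ({nd 3} : Finset _) := by decide +kernel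
  have hne : (nd 0 : Fin chevD4.rank) ≠ nd 1 ∧ (nd 2 : Fin chevD4.rank) ≠ nd 1 ∧
      (nd 3 : Fin chevD4.rank) ≠ nd 1 ∧ (nd 2 : Fin chevD4.rank) ≠ nd 0 ∧
      (nd 3 : Fin chevD4.rank) ≠ nd 0 ∧ (nd 3 : Fin chevD4.rank) ≠ nd 2 := by decide +kernel
  obtain ⟨d1, d2, d3, d4, d5, d6⟩ := hne
  have hprod : ∀ s : Fin chevD4.nroots, ((∏ i, par θ 1 k i ^ cart chevD4 i s : Kˣ) : K) =
      (k : K) ^ cart chevD4 (nd 0) s * θ (k : K) ^ cart chevD4 (nd 2) s *
        θ (θ (k : K)) ^ cart chevD4 (nd 3) s := by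
    intro s
    rw [hu, Finset.prod_insert hd.1, Finset.prod_insert hd.2.1, Finset.prod_insert hd.2.2,
      Finset.prod_singleton]
    simp [par, d1, d2, d3, d4, d5, d6, mul_assoc]
  have hrows : ([18, 13, 12, 14, 17, 20, 21] : List ℕ).map (fun s =>
      ([nd 0, nd 2, nd 3] : List (Fin chevD4.rank)).map fun i =>
        if h : s < chevD4.nroots then cart chevD4 i ⟨s, h⟩ else 0) =
      [[2, 0, 0], [0, 2, 0], [0, 0, 2], [-1, -1, -1], [-1, 1, 1], [1, -1, 1], [1, 1, -1]] := by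
    decide +kernel
  simp only [List.map_cons, List.map_nil, List.cons.injEq, and_true,
    dif_pos (show 18 < chevD4.nroots by decide +kernel), dif_pos (show 13 < chevD4.nroots by decide +kernel),
    dif_pos (show 12 < chevD4.nroots by decide +kernel), dif_pos (show 14 < chevD4.nroots by decide +kernel),
    dif_pos (show 17 < chevD4.nroots by decide +kernel), dif_pos (show 20 < chevD4.nroots by decide +kernel),
    dif_pos (show 21 < chevD4.nroots by decide +kernel)] at hrows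
  obtain ⟨⟨a0, a2, a3⟩, ⟨b0, b2, b3⟩, ⟨c0, c2, c3⟩, ⟨g0, g2, g3⟩, ⟨i0, i2, i3⟩, ⟨j0, j2, j3⟩,
    l0, l2, l3⟩ := hrows
  obtain ⟨s0, s1, s2, s3⟩ := simp_rt
  -- the torus on the two orbits
  have hk0 : (k : K) ≠ 0 := k.ne_zero
  set B : K := (k : K)⁻¹ * θ (k : K) * θ (θ (k : K)) with hB
  have hconjA : ∀ t, h * C.pP (Q.L o1) t * h⁻¹ = C.pP (Q.L o1) ((k : K) ^ 2 * t) := fun t => by
    refine TwTwoGen.conj_pP C _ _ _ _ fun a ha u => ?_
    rw [hh, C.G.torθ_conj_xu, hprod]
    simp only [Q, twPar, outL_one, List.mem_cons, List.not_mem_nil, or_false] at ha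
    rcases ha with rfl | rfl | rfl
    · simp [s0, rt, a0, a2, a3, zpow_two, pow_two]
    · simp [s2, rt, b0, b2, b3, zpow_two, pow_two]
    · simp [s3, rt, c0, c2, c3, zpow_two, pow_two]
  have hconjB : ∀ t, n * h * n⁻¹ * C.pP (Q.L o1) t * (n * h * n⁻¹)⁻¹ =
      C.pP (Q.L o1) (B * t) := fun t => by
    have hw : [17, 20, 21].map (TwoGen.wordRoot chevD4 [1, 0, 2, 3]) = [18, 13, 12] := by
      decide +kernel
    simp only [List.map_cons, List.map_nil, List.cons.injEq, and_true] at hw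
    refine TwTwoGen.conj_pP C _ _ _ _ fun a ha u => ?_
    simp only [Q, twPar, outL_one, List.mem_cons, List.not_mem_nil, or_false] at ha
    rcases ha with rfl | rfl | rfl
    · rw [hn, hh, s0, TwTwoGen.conj_tor_conj C coxW _ (rt 18) (rt 17) (by rw [coxW_val]; exact hw.1),
        hprod]
      simp [rt, i0, i2, i3, hB]
    · rw [hn, hh, s2, TwTwoGen.conj_tor_conj C coxW _ (rt 13) (rt 20) (by rw [coxW_val]; exact hw.2.1),
        hprod]
      simp [rt, j0, j2, j3, hB, h3]
      ring_nf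
    · rw [hn, hh, s3, TwTwoGen.conj_tor_conj C coxW _ (rt 12) (rt 21) (by rw [coxW_val]; exact hw.2.2),
        hprod]
      simp [rt, l0, l2, l3, hB, h3]
      ring_nf
  have hA1 : (k : K) ^ 2 ≠ 1 := fun e => by
    have h2 : orderOf k ∣ 2 := orderOf_dvd_of_pow_eq_one (Units.ext (by simpa using e))
    rw [hord] at h2
    have := Nat.le_of_dvd (by norm_num) h2
    omega
  have hB1 : B ≠ 1 := fun e => by
    rw [hB, hθ, hθ, ← pow_mul, mul_assoc, ← pow_add, inv_mul_eq_iff_eq_mul₀ hk0, mul_one] at e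
    have h1 : (k : K) ^ (q + q * q - 1) = 1 := by
      refine mul_right_cancel₀ hk0 ?_
      rw [one_mul, ← pow_succ, Nat.sub_add_cancel (by omega), e]
    have h2 : orderOf k ∣ q + q * q - 1 := orderOf_dvd_of_pow_eq_one (Units.ext (by simpa using h1))
    rw [hord] at h2
    have := Nat.le_of_dvd (by omega) h2
    have e2 : q * q = q ^ 2 := (pow_two q).symm
    omega
  -- the short orbit
  have hinv : ∀ t, (C.pP (Q.L o1) t)⁻¹ = C.pP (Q.L o1) (-t) := fun t =>
    inv_eq_of_mul_eq_one_right (by rw [← C.pP_add (Q.orth o1), add_neg_cancel, C.pP_zero])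
  have hX1 : ∀ t, C.pP (Q.L o1) t ∈ S := by
    have hc : Commute h (n * h * n⁻¹) := C.G.diagonal_comm hhd
      ((Subgroup.mem_normalizer_iff.1 (C.G.nw_mem_normalizer coxW) _).1 hhd)
    have hq := TwTwoGen.trick hhS hbS rfl hc
    rw [hx, hinv, hconjB, ← C.pP_add (Q.orth o1), hconjA, hinv, ← C.pP_add (Q.orth o1)] at hq
    refine TwoGen.span_all 2 (by simp) hk (TwTwoGen.params C (Q.orth o1) S) (t0 := _) ?_ hq
      fun t ht => ?_
    · rw [show (k : K) ^ 2 * (1 + B * -1) + -(1 + B * -1) = ((k : K) ^ 2 - 1) * (1 - B) by ring]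
      exact mul_ne_zero (sub_ne_zero.2 hA1) (sub_ne_zero.2 hB1.symm)
    · show C.pP (Q.L o1) _ ∈ S
      rw [zpow_two, Units.val_mul, ← pow_two, ← hconjA]
      exact mul_mem (mul_mem hhS ht) (inv_mem hhS)
  have hnS : n ∈ S := by
    have := mul_mem (inv_mem (hX1 1)) hbS
    rwa [hx, inv_mul_cancel_left] at this
  obtain ⟨m1, m2, m3, m4⟩ := negr_rt
  obtain ⟨J1, J0, J2, J3⟩ := J_mem θ
  have hfl : [5, 10, 11, 9].map (TwoGen.wordRoot chevD4 [1, 0, 2, 3])^[3] = [18, 13, 12, 14] := by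
    decide +kernel
  simp only [List.map_cons, List.map_nil, List.cons.injEq, and_true] at hfl
  have hY1 : ∀ t, C.pN (Q.L o1) t ∈ S := fun t => by
    refine TwTwoGen.pN_mem_of_flip Q o1 coxW 3 hnΓ hnS (fun a ha => ?_) (fun t _ => hX1 t)
      (show t ∈ outF θ o1 by rw [outF_one]; trivial)
    simp only [Q, twPar, outL_one, List.mem_cons, List.not_mem_nil, or_false] at ha
    rw [coxW_val]
    rcases ha with rfl | rfl | rfl
    · exact ⟨nd 0, J0, by rw [s0, m1]; exact hfl.1⟩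
    · exact ⟨nd 2, J2, by rw [s2, m2]; exact hfl.2.1⟩
    · exact ⟨nd 3, J3, by rw [s3, m3]; exact hfl.2.2.1⟩
  -- one element of the long orbit
  obtain ⟨t0, ht00, ht0⟩ : ∃ t0 : K, t0 ≠ 0 ∧ C.G.xu (rt 14) t0 ∈ S := by
    have h4 : [18, 13, 12].map (TwoGen.wordRoot chevD4 [1, 0, 2, 3])^[4] = [19, 16, 15] := by
      decide +kernel
    simp only [List.map_cons, List.map_nil, List.cons.injEq, and_true] at h4
    obtain ⟨ea, hea⟩ := TwoGen.exists_conj C (K := K) coxW 4 (r := rt 18) (k := rt 19)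
      (by rw [coxW_val]; exact h4.1)
    obtain ⟨eb, heb⟩ := TwoGen.exists_conj C (K := K) coxW 4 (r := rt 13) (k := rt 16)
      (by rw [coxW_val]; exact h4.2.1)
    obtain ⟨ec, hec⟩ := TwoGen.exists_conj C (K := K) coxW 4 (r := rt 12) (k := rt 15)
      (by rw [coxW_val]; exact h4.2.2)
    have hy : C.G.xu (rt 19) (ea : K) * C.G.xu (rt 16) (eb : K) * C.G.xu (rt 15) (ec : K) ∈ S := by
      have := mul_mem (mul_mem (pow_mem hnS 4) (hX1 1)) (inv_mem (pow_mem hnS 4))
      simp only [Q, twPar, pP_one_eq, x3, map_one] at this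
      rwa [← conj_mul, ← conj_mul, hn, hea, heb, hec, mul_one, mul_one, mul_one] at this
    have hz : ∀ t, C.G.xu (rt 5) t * C.G.xu (rt 10) (θ t) * C.G.xu (rt 11) (θ (θ t)) ∈ S :=
      fun t => by
        have := hY1 t
        simpa [Q, twPar, pN_one_eq, x3] using this
    have hct : ∀ a ∈ [(19, 10), (19, 11), (16, 5), (16, 11), (15, 5), (15, 10), (14, 10), (14, 11),
        (14, 16), (14, 15)], a.1 < chevD4.nroots ∧ a.2 < chevD4.nroots ∧ a.2 ≠ a.1 ∧
          a.2 ≠ chevD4.neg a.1 ∧ chevD4.commTerms a.1 a.2 = [] := by decide +kernel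
    have hcomm : ∀ (a b : ℕ) (ha : a < chevD4.nroots) (hb : b < chevD4.nroots),
        (a, b) ∈ [(19, 10), (19, 11), (16, 5), (16, 11), (15, 5), (15, 10), (14, 10), (14, 11),
        (14, 16), (14, 15)] → ∀ u v : K, Commute (C.G.xu ⟨a, ha⟩ u) (C.G.xu ⟨b, hb⟩ v) := by
      intro a b ha hb h u v
      obtain ⟨-, -, h1, h2, h3⟩ := hct _ h
      exact C.xu_commute (fun e => h1 (congrArg Fin.val e))
        (fun e => h2 ((congrArg Fin.val e).trans (C.G.negr_val _))) h3 u v
    have hw : chevD4.commTerms 19 5 = [(14, 1, 1, 1)] ∧ chevD4.commTerms 16 10 = [(14, -1, 1, 1)] ∧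
        chevD4.commTerms 15 11 = [(14, -1, 1, 1)] := by decide +kernel
    have h14 : (14 : ℕ) < chevD4.nroots := by decide +kernel
    have hp : ∀ (r s : Fin chevD4.nroots) (z : ℤ), s ≠ r → s ≠ C.G.negr r →
        chevD4.commTerms r.val s.val = [(14, z, 1, 1)] → ∀ u v : K,
        C.G.xu s v * C.G.xu r u = C.G.xu r u * C.G.xu s v * C.G.xu (rt 14) ((z : K) * -u * v) := by
      intro r s z h1 h2 h3 u v
      have hc := C.commAt r s h1 h2 u v
      unfold CommAt at hc
      rw [cwR, h3] at hc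
      simp only [List.map_cons, List.map_nil, wordR_cons, wordR_nil, mul_one, xN, dif_pos h14,
        pow_one] at hc
      exact Units.ext hc
    have hcz : ∀ t, C.G.xu (rt 14) (-((ea : K) * t) + (eb : K) * θ t + (ec : K) * θ (θ t)) ∈ S := by
      intro t
      have e := three_comm (hp (rt 19) (rt 5) 1 (by decide +kernel)
          (by rw [Fin.ne_iff_vne, C.G.negr_val]; decide +kernel) hw.1 (ea : K) t)
        (hp (rt 16) (rt 10) (-1) (by decide +kernel)
          (by rw [Fin.ne_iff_vne, C.G.negr_val]; decide +kernel) hw.2.1 (eb : K) (θ t))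
        (hp (rt 15) (rt 11) (-1) (by decide +kernel)
          (by rw [Fin.ne_iff_vne, C.G.negr_val]; decide +kernel) hw.2.2 (ec : K) (θ (θ t)))
        (hcomm 19 10 _ _ (by simp) _ _).symm (hcomm 19 11 _ _ (by simp) _ _).symm
        (hcomm 16 5 _ _ (by simp) _ _).symm (hcomm 16 11 _ _ (by simp) _ _).symm
        (hcomm 15 5 _ _ (by simp) _ _).symm (hcomm 15 10 _ _ (by simp) _ _).symm
        (hcomm 14 10 _ _ (by simp) _ _) (hcomm 14 11 _ _ (by simp) _ _)
        (hcomm 14 11 _ _ (by simp) _ _) (hcomm 14 16 _ _ (by simp) _ _)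
        (hcomm 14 15 _ _ (by simp) _ _) (hcomm 14 15 _ _ (by simp) _ _)
      have := mul_mem (inv_mem (mul_mem hy (hz t))) (mul_mem (hz t) hy)
      rw [e, inv_mul_cancel_left, ← C.G.xu_add, ← C.G.xu_add] at this
      simpa [mul_neg, neg_mul, add_assoc] using this
    by_contra hno
    simp only [not_exists, not_and] at hno
    have hzero : ∀ t : K, -((ea : K) * t) + (eb : K) * θ t + (ec : K) * θ (θ t) = 0 := fun t => by
      by_contra hne'
      exact hno _ hne' (hcz t)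
    let p : Polynomial K := -(Polynomial.C (ea : K) * Polynomial.X) +
      Polynomial.C (eb : K) * Polynomial.X ^ q + Polynomial.C (ec : K) * Polynomial.X ^ (q * q)
    have e2 : q * q = q ^ 2 := (pow_two q).symm
    have hdeg : p.natDegree ≤ q * q := by
      refine (Polynomial.natDegree_add_le _ _).trans (max_le ((Polynomial.natDegree_add_le _ _).trans
        (max_le ?_ ?_)) ?_)
      · rw [Polynomial.natDegree_neg]
        exact ((Polynomial.natDegree_C_mul_le _ _).trans Polynomial.natDegree_X_le).trans (by omega)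
      · exact ((Polynomial.natDegree_C_mul_le _ _).trans (Polynomial.natDegree_X_pow_le _)).trans
          (by omega)
      · exact (Polynomial.natDegree_C_mul_le _ _).trans (Polynomial.natDegree_X_pow_le _)
    have hp0 : p = 0 := Polynomial.eq_zero_of_natDegree_lt_card_of_eval_eq_zero p
      (f := fun t : K => t) (fun _ _ e => e) (fun t => by
        simpa [p, hθ, ← pow_mul] using hzero t) (by rw [hK]; omega)
    have h1 : p.coeff 1 = 0 := by rw [hp0, Polynomial.coeff_zero]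
    simp [p, Polynomial.coeff_X_pow, show (1 : ℕ) ≠ q by omega, show (1 : ℕ) ≠ q * q by omega] at h1
  -- the whole long orbit
  set N : K := (k : K) * θ (k : K) * θ (θ (k : K)) with hN
  have hstep : ∀ j : ℕ, C.G.xu (rt 14) (N⁻¹ ^ j * t0) ∈ S := by
    intro j
    induction j with
    | zero => simpa using ht0
    | succ j ih =>
      have := mul_mem (mul_mem hhS ih) (inv_mem hhS)
      rw [hh, C.G.torθ_conj_xu, hprod] at this
      convert this using 2
      simp [rt, g0, g2, g3, hN, mul_inv_rev, pow_succ']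
      ring
  have hX0 : ∀ t ∈ Q.F o0, C.pP (Q.L o0) t ∈ S := by
    intro t ht
    show C.pP (outL θ o0) t ∈ S
    rw [pP_zero_eq]
    by_cases h0 : t = 0
    · rw [h0, C.G.xu_zero]; exact one_mem _
    have ht' : θ t = t := (mem_outF_zero θ).1 ht
    -- `t0` is fixed
    have ht0' : θ t0 = t0 := by
      have hΓ : C.G.xu (rt 14) t0 ∈ twistedD4 K q :=
        ((Subgroup.closure_le _).2 (fun g hg => by
          rcases hg with rfl | rfl
          exacts [hhΓ, mul_mem hxΓ hnΓ])) ht0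
      obtain ⟨u, hu', e⟩ := Q.complete o0 _ ⟨le_Fix θ hθ h3 hΓ, by
        simpa [o0] using C.normal_mem (L_zero θ) (fun _ => t0)⟩
      rw [show C.pP (Q.L o0) u = C.G.xu (rt 14) u from pP_zero_eq θ u] at e
      rw [C.G.xu_injective _ e]
      exact (mem_outF_zero θ).1 hu'
    obtain ⟨b, hb⟩ := exists_norm_eq (M := 1 + q + q ^ 2) hq hK (by
      zify [h1q.le, Nat.one_le_pow _ _ (zero_lt_one.trans h1q)]
      ring) (Units.mk0 (t0 / t) (div_ne_zero ht00 h0)) (by
        rw [Units.val_mk0, ← hθ, map_div₀, ht', ht0'])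
    obtain ⟨j, rfl⟩ : ∃ j : ℕ, k ^ j = b :=
      (isOfFinOrder_of_finite k).mem_powers_iff_mem_zpowers.2 (hk b)
    have hv := congrArg Units.val hb
    rw [Units.val_pow_eq_pow_val, Units.val_mk0, Units.val_pow_eq_pow_val, ← pow_mul, mul_comm,
      pow_mul] at hv
    have := hstep j
    rwa [inv_pow, show N ^ j = t0 / t by rw [hN, hθ, hθ, ← hv]; ring, inv_div,
      div_mul_cancel₀ t ht00] at this
  intro o t ht
  rcases o_cases o with rfl | rfl
  · refine ⟨hX0 t ht, TwTwoGen.pN_mem_of_flip Q o0 coxW 3 hnΓ hnS (fun a ha => ?_) hX0 ht⟩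
    simp only [Q, twPar, outL_zero, List.mem_singleton] at ha
    subst ha
    rw [coxW_val]
    exact ⟨nd 1, J1, by rw [s1, m4]; exact hfl.2.2.2⟩
  · exact ⟨hX1 t, hY1 t⟩

end TD4

end CfsgLib.Lie.Chev
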