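import Cfsg.Agent.Lib.Lie.Chev.Tw.TwoGen.Base
import Cfsg.Agent.Lib.Lie.Chev.Tw.Out.CaseE6

/-!
# ²E₆(q) is generated by two elements
-/

set_option autoImplicit false
set_option maxRecDepth 100000

namespace CfsgLib.Lie.Chev

open Cfsg.Lie
open scoped MatrixGroups

namespace TE6

variable {K : Type*} [Field K]

/-- a word for a Coxeter element of the twisted Weyl group -/
def coxW : List (Fin chevE6.rank) := [nd 1, nd 3, nd 2, nd 4, nd 0, nd 5]

theorem coxW_val : coxW.map Fin.val = [1, 3, 2, 4, 0, 5] := rfl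

theorem pair_cm {G : Type*} [Group G] {a1 a2 b1 b2 c c' : G} (e2 : b2 * a1 = a1 * b2 * c)
    (e1 : b1 * a2 = a2 * b1 * c') (h11 : Commute b1 a1) (h22 : Commute b2 a2)
    (d : Commute c a2) (d' : Commute c' b2) :
    b1 * b2 * (a1 * a2) = a1 * a2 * (b1 * b2) * (c' * c) := by
  calc b1 * b2 * (a1 * a2) = b1 * (b2 * a1) * a2 := by simp only [mul_assoc]
    _ = b1 * a1 * b2 * (c * a2) := by rw [e2]; simp only [mul_assoc]
    _ = a1 * b1 * (b2 * a2) * c := by rw [d.eq, h11.eq]; simp only [mul_assoc]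
    _ = a1 * (b1 * a2) * b2 * c := by rw [h22.eq]; simp only [mul_assoc]
    _ = a1 * a2 * b1 * (c' * b2) * c := by rw [e1]; simp only [mul_assoc]
    _ = _ := by rw [d'.eq]; simp only [mul_assoc]

theorem two_gen [Fintype K] {q : ℕ} (hq : IsPrimePow q) (hK : Fintype.card K = q ^ 2) :
    ∃ a b : ↥(twistedE6 K q), Subgroup.closure ({a, b} : Set ↥(twistedE6 K q)) = ⊤ := by
  classical
  obtain ⟨θ, hθ⟩ := Frob.exists_powEquiv (K := K) hq hK
  have h2 : ∀ t : K, θ (θ t) = t := fun t => by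
    rw [hθ, hθ, ← pow_mul, show q * q = q ^ 2 from (pow_two q).symm, ← hK, FiniteField.pow_card]
  have P := twGp θ hθ h2
  let Q := twPar θ hθ h2
  obtain ⟨k, hk⟩ := IsCyclic.exists_generator (α := Kˣ)
  have hord : orderOf k = q ^ 2 - 1 := by
    rw [orderOf_eq_card_of_forall_mem_zpowers hk, Nat.card_units, Nat.card_eq_fintype_card, hK]
  have h1q : 1 < q := hq.one_lt
  have hq4 : 4 ≤ q ^ 2 := by nlinarith
  set h := C.G.torθ (par θ 1 1 1 k) with hh
  have hhd : h ∈ chevE6.diagonalSubgroup K := (C.G.diagonal_eq_range (K := K)).symm ▸ ⟨_, rfl⟩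
  have hhΓ : h ∈ twistedE6 K q :=
    P.H_le ((twist θ).torθ_mem_Fix (par_fixed θ h2 (by rw [Units.val_one, map_one])
      (by rw [Units.val_one, map_one])))
  have hnU : ∀ i : Fin chevE6.rank, C.G.nE (C.G.simp' i) (1 : K) = C.G.nU i := fun i => by
    simp [Good.nE, Good.nU]
  set n := C.G.nw (K := K) coxW with hn
  have hnΓ : n ∈ twistedE6 K q := by
    have m0 := TwTwoGen.pM_mem Q k0
    have m1 := TwTwoGen.pM_mem Q k1
    have m2 := TwTwoGen.pM_mem Q k2
    have m3 := TwTwoGen.pM_mem Q k3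
    rw [C.pM_eq (Q.orth _)] at m0 m1 m2 m3
    simp only [Q, twPar, outL0, outL1, outL2, outL3, List.map_cons, List.map_nil, List.prod_cons,
      List.prod_nil, mul_one, map_one, hnU] at m0 m1 m2 m3
    have := mul_mem (mul_mem (mul_mem m0 m1) m2) m3
    simpa [hn, coxW, Good.nw, mul_assoc] using this
  set x := C.pP (Q.L k3) (1 : K) with hx
  have hxΓ : x ∈ twistedE6 K q := Q.mem_pos k3 1 (one_mem _)
  refine ⟨⟨h, hhΓ⟩, ⟨x * n, mul_mem hxΓ hnΓ⟩, TwTwoGen.top_of_orbits Q _ _ ?_⟩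
  set S := Subgroup.closure ({h, x * n} : Set (GL chevE6.Idx K))
  have hhS : h ∈ S := Subgroup.subset_closure (Set.mem_insert _ _)
  have hbS : x * n ∈ S := Subgroup.subset_closure (Set.mem_insert_of_mem _ rfl)
  have hSΓ : S ≤ twistedE6 K q := (Subgroup.closure_le _).2 fun g hg => by
    rcases hg with rfl | rfl
    exacts [hhΓ, mul_mem hxΓ hnΓ]
  obtain ⟨v1, v3, v2, v4, v0, v5⟩ := par_vals θ (1 : Kˣ) 1 1 k
  have hprod : ∀ s : Fin chevE6.nroots, ((∏ i, par θ 1 1 1 k i ^ cart chevE6 i s : Kˣ) : K) =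
      (k : K) ^ cart chevE6 (nd 0) s * θ (k : K) ^ cart chevE6 (nd 5) s := by
    intro s
    rw [← Finset.prod_subset (Finset.subset_univ ({nd 0, nd 5} : Finset (Fin chevE6.rank)))
      (fun i _ hi => by
        rcases nd_cases i with rfl | rfl | rfl | rfl | rfl | rfl
        · simp at hi
        · rw [v1, one_zpow]
        · rw [v2, one_zpow]
        · rw [v3, one_zpow]
        · rw [v4, map_one, one_zpow]
        · simp at hi),
      Finset.prod_pair (by decide +kernel), v0, v5]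
    simp
  have hrows : ([rt 56, rt 36, rt 42, rt 37, rt 8] : List (Fin chevE6.nroots)).map (fun s =>
      ([nd 0, nd 5] : List (Fin chevE6.rank)).map fun i => cart chevE6 i s) =
      [[2, 0], [0, 2], [-1, 0], [0, -1], [-1, -1]] := by decide +kernel
  simp only [List.map_cons, List.map_nil, List.cons.injEq, and_true] at hrows
  obtain ⟨⟨a0, a5⟩, ⟨b0, b5⟩, ⟨c0, c5⟩, ⟨d0, d5⟩, g0, g5⟩ := hrows
  obtain ⟨s0, s1, s2, s3, s4, s5⟩ := simp_rt
  obtain ⟨m46, m39, m42, m37, m56, m36⟩ := negr_rt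
  have hJ : nd 1 ∈ (orbits θ).J k0 ∧ nd 3 ∈ (orbits θ).J k1 ∧ nd 2 ∈ (orbits θ).J k2 ∧
      nd 4 ∈ (orbits θ).J k2 ∧ nd 0 ∈ (orbits θ).J k3 ∧ nd 5 ∈ (orbits θ).J k3 := by
    show nd 1 ∈ orbGraphE6.nodes chevE6 k0 ∧ nd 3 ∈ orbGraphE6.nodes chevE6 k1 ∧
      nd 2 ∈ orbGraphE6.nodes chevE6 k2 ∧ nd 4 ∈ orbGraphE6.nodes chevE6 k2 ∧
      nd 0 ∈ orbGraphE6.nodes chevE6 k3 ∧ nd 5 ∈ orbGraphE6.nodes chevE6 k3
    decide +kernel
  obtain ⟨J1, J3, J2, J4, J0, J5⟩ := hJ
  have hk0 : (k : K) ≠ 0 := k.ne_zero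
  have hconjA : ∀ t, h * C.pP (Q.L k3) t * h⁻¹ = C.pP (Q.L k3) ((k : K) ^ 2 * t) := fun t => by
    refine TwTwoGen.conj_pP C _ _ _ _ fun a ha u => ?_
    rw [hh, C.G.torθ_conj_xu, hprod]
    simp only [Q, twPar, outL3, List.mem_cons, List.not_mem_nil, or_false] at ha
    rcases ha with rfl | rfl
    · rw [s0, a0, a5]; simp [zpow_two, pow_two]
    · rw [s5, b0, b5]; simp [zpow_two, pow_two]
  have hw : [42, 37, 46].map (TwoGen.wordRoot chevE6 [1, 3, 2, 4, 0, 5]) = [56, 36, 39] := by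
    decide +kernel
  simp only [List.map_cons, List.map_nil, List.cons.injEq, and_true] at hw
  have hconjB : ∀ t, n * h * n⁻¹ * C.pP (Q.L k3) t * (n * h * n⁻¹)⁻¹ =
      C.pP (Q.L k3) ((k : K)⁻¹ * t) := fun t => by
    refine TwTwoGen.conj_pP C _ _ _ _ fun a ha u => ?_
    simp only [Q, twPar, outL3, List.mem_cons, List.not_mem_nil, or_false] at ha
    rcases ha with rfl | rfl
    · rw [hn, hh, s0, TwTwoGen.conj_tor_conj C coxW _ (rt 56) (rt 42) (by rw [coxW_val]; exact hw.1),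
        hprod, c0, c5]
      simp
    · rw [hn, hh, s5, TwTwoGen.conj_tor_conj C coxW _ (rt 36) (rt 37) (by rw [coxW_val]; exact hw.2.1),
        hprod, d0, d5]
      simp
  have hA1 : (k : K) ^ 2 ≠ 1 := fun e => by
    have h2 : orderOf k ∣ 2 := orderOf_dvd_of_pow_eq_one (Units.ext (by simpa using e))
    rw [hord] at h2
    have := Nat.le_of_dvd (by norm_num) h2
    omega
  have hB1 : (k : K)⁻¹ ≠ 1 := fun e => hA1 (by rw [inv_eq_one.1 e, one_pow])
  -- the pairs
  have hinv : ∀ t, (C.pP (Q.L k3) t)⁻¹ = C.pP (Q.L k3) (-t) := fun t =>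
    inv_eq_of_mul_eq_one_right (by rw [← C.pP_add (Q.orth k3), add_neg_cancel, C.pP_zero])
  have hX3 : ∀ t, C.pP (Q.L k3) t ∈ S := by
    have hc : Commute h (n * h * n⁻¹) := C.G.diagonal_comm hhd
      ((Subgroup.mem_normalizer_iff.1 (C.G.nw_mem_normalizer coxW) _).1 hhd)
    have hq := TwTwoGen.trick hhS hbS rfl hc
    rw [hx, hinv, hconjB, ← C.pP_add (Q.orth k3), hconjA, hinv, ← C.pP_add (Q.orth k3)] at hq
    refine TwoGen.span_all 2 (by simp) hk (TwTwoGen.params C (Q.orth k3) S) (t0 := _) ?_ hq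
      fun t ht => ?_
    · rw [show (k : K) ^ 2 * (1 + (k : K)⁻¹ * -1) + -(1 + (k : K)⁻¹ * -1) =
        ((k : K) ^ 2 - 1) * (1 - (k : K)⁻¹) by ring]
      exact mul_ne_zero (sub_ne_zero.2 hA1) (sub_ne_zero.2 hB1.symm)
    · show C.pP (Q.L k3) _ ∈ S
      rw [zpow_two, Units.val_mul, ← pow_two, ← hconjA]
      exact mul_mem (mul_mem hhS ht) (inv_mem hhS)
  have hnS : n ∈ S := by
    have := mul_mem (inv_mem (hX3 1)) hbS
    rwa [hx, inv_mul_cancel_left] at this
  have hX2 : ∀ t, C.pP (Q.L k2) t ∈ S := fun t => by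
    refine TwTwoGen.pP_mem_of_map Q k3 k2 coxW 1 hnΓ hnS (fun a ha => ?_) (fun t _ => hX3 t)
      (show t ∈ outF θ k2 by rw [outF2]; trivial)
    simp only [Q, twPar, outL2, List.mem_cons, List.not_mem_nil, or_false] at ha
    rw [coxW_val]
    rcases ha with rfl | rfl
    · exact ⟨nd 0, J0, by rw [s2, s0]; exact hw.1⟩
    · exact ⟨nd 5, J5, by rw [s4, s5]; exact hw.2.1⟩
  have hfl : [25, 32, 29, 34, 15, 35].map (TwoGen.wordRoot chevE6 [1, 3, 2, 4, 0, 5])^[6] =
      [46, 39, 37, 42, 36, 56] := by decide +kernel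
  simp only [List.map_cons, List.map_nil, List.cons.injEq, and_true] at hfl
  obtain ⟨f0, f1, f2, f4, f3, f5⟩ := hfl
  -- one element of a long orbit
  obtain ⟨t0, ht00, hstep⟩ : ∃ t0 : K, t0 ≠ 0 ∧
      ∀ j : ℕ, C.G.xu (rt 39) (((k : K) * θ (k : K))⁻¹ ^ j * t0) ∈ S := by
    have h2' : [56, 36].map (TwoGen.wordRoot chevE6 [1, 3, 2, 4, 0, 5])^[2] = [31, 28] := by
      decide +kernel
    simp only [List.map_cons, List.map_nil, List.cons.injEq, and_true] at h2'
    obtain ⟨ea, hea⟩ := TwoGen.exists_conj C (K := K) coxW 2 (r := rt 56) (k := rt 31)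
      (by rw [coxW_val]; exact h2'.1)
    obtain ⟨eb, heb⟩ := TwoGen.exists_conj C (K := K) coxW 2 (r := rt 36) (k := rt 28)
      (by rw [coxW_val]; exact h2'.2)
    have hy : C.G.xu (rt 31) (ea : K) * C.G.xu (rt 28) (eb : K) ∈ S := by
      have := mul_mem (mul_mem (pow_mem hnS 2) (hX3 1)) (inv_mem (pow_mem hnS 2))
      simp only [Q, twPar, pP3, x2, map_one] at this
      rwa [← conj_mul, hn, hea, heb, mul_one, mul_one] at this
    have hz : ∀ t, C.G.xu (rt 42) t * C.G.xu (rt 37) (θ t) ∈ S := fun t => by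
      have := hX2 t
      simpa [Q, twPar, pP2, x2] using this
    have hct : ∀ a ∈ [(31, 42), (28, 37), (32, 28), (32, 37)],
        a.1 < chevE6.nroots ∧ a.2 < chevE6.nroots ∧ a.2 ≠ a.1 ∧ a.2 ≠ chevE6.neg a.1 ∧
          chevE6.commTerms a.1 a.2 = [] := by decide +kernel
    have hcomm : ∀ (a b : ℕ) (ha : a < chevE6.nroots) (hb : b < chevE6.nroots),
        (a, b) ∈ [(31, 42), (28, 37), (32, 28), (32, 37)] →
        ∀ u v : K, Commute (C.G.xu ⟨a, ha⟩ u) (C.G.xu ⟨b, hb⟩ v) := by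
      intro a b ha hb h u v
      obtain ⟨-, -, h1, h2, h3⟩ := hct _ h
      exact C.xu_commute (fun e => h1 (congrArg Fin.val e))
        (fun e => h2 ((congrArg Fin.val e).trans (C.G.negr_val _))) h3 u v
    have hwt : chevE6.commTerms 31 37 = [(32, 1, 1, 1)] ∧ chevE6.commTerms 28 42 = [(32, -1, 1, 1)] := by
      decide +kernel
    have h32 : (32 : ℕ) < chevE6.nroots := by decide +kernel
    have hp : ∀ (r s : Fin chevE6.nroots) (z : ℤ), s ≠ r → s ≠ C.G.negr r →
        chevE6.commTerms r.val s.val = [(32, z, 1, 1)] → ∀ u v : K,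
        C.G.xu s v * C.G.xu r u = C.G.xu r u * C.G.xu s v * C.G.xu (rt 32) ((z : K) * -u * v) := by
      intro r s z h1 h2 h3 u v
      have hc := C.commAt r s h1 h2 u v
      unfold CommAt at hc
      rw [cwR, h3] at hc
      simp only [List.map_cons, List.map_nil, wordR_cons, wordR_nil, mul_one, xN, dif_pos h32,
        pow_one] at hc
      exact Units.ext hc
    have hcz : ∀ t, C.G.xu (rt 32) ((eb : K) * t - (ea : K) * θ t) ∈ S := by
      intro t
      have e := pair_cm (hp (rt 31) (rt 37) 1 (by decide +kernel)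
          (by rw [Fin.ne_iff_vne, C.G.negr_val]; decide +kernel) hwt.1 (ea : K) (θ t))
        (hp (rt 28) (rt 42) (-1) (by decide +kernel)
          (by rw [Fin.ne_iff_vne, C.G.negr_val]; decide +kernel) hwt.2 (eb : K) t)
        (hcomm 31 42 _ _ (by simp) _ _).symm (hcomm 28 37 _ _ (by simp) _ _).symm
        (hcomm 32 28 _ _ (by simp) _ _) (hcomm 32 37 _ _ (by simp) _ _)
      have := mul_mem (inv_mem (mul_mem hy (hz t))) (mul_mem (hz t) hy)
      rw [e, inv_mul_cancel_left, ← C.G.xu_add] at this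
      simpa [mul_neg, neg_mul, sub_eq_add_neg] using this
    obtain ⟨t1, ht10, ht1⟩ : ∃ t1 : K, t1 ≠ 0 ∧ C.G.xu (rt 32) t1 ∈ S := by
      by_contra hno
      simp only [not_exists, not_and] at hno
      have hzero : ∀ t : K, (eb : K) * t - (ea : K) * θ t = 0 := fun t => by
        by_contra hne'
        exact hno _ hne' (hcz t)
      have e1 := hzero 1
      rw [map_one, mul_one, mul_one, sub_eq_zero] at e1
      have e2 := hzero k
      rw [e1, ← mul_sub, mul_eq_zero, or_iff_right ea.ne_zero, sub_eq_zero, hθ] at e2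
      have h1 : (k : K) ^ (q - 1) = 1 := by
        refine mul_right_cancel₀ hk0 ?_
        rw [one_mul, ← pow_succ, Nat.sub_add_cancel h1q.le, ← e2]
      have h3 : orderOf k ∣ q - 1 := orderOf_dvd_of_pow_eq_one (Units.ext (by simpa using h1))
      rw [hord] at h3
      have := Nat.le_of_dvd (by omega) h3
      have : 2 * q ≤ q ^ 2 := by nlinarith
      omega
    -- to the root `8`, where the torus acts by the inverse norm
    have h4' : [32, 8].map (TwoGen.wordRoot chevE6 [1, 3, 2, 4, 0, 5]) = [20, 46] := by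
      decide +kernel
    simp only [List.map_cons, List.map_nil, List.cons.injEq, and_true] at h4'
    have h48 : (TwoGen.wordRoot chevE6 [1, 3, 2, 4, 0, 5])^[4] 32 = 8 := by decide +kernel
    have h28 : (TwoGen.wordRoot chevE6 [1, 3, 2, 4, 0, 5])^[2] 8 = 39 := by decide +kernel
    obtain ⟨e4, he4⟩ := TwoGen.exists_conj C (K := K) coxW 4 (r := rt 32) (k := rt 8)
      (by rw [coxW_val]; exact h48)
    obtain ⟨e2, he2⟩ := TwoGen.exists_conj C (K := K) coxW 2 (r := rt 8) (k := rt 39)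
      (by rw [coxW_val]; exact h28)
    have h8 : C.G.xu (rt 8) ((e4 : K) * t1) ∈ S := by
      rw [← he4, ← hn]
      exact mul_mem (mul_mem (pow_mem hnS 4) ht1) (inv_mem (pow_mem hnS 4))
    have hj8 : ∀ j : ℕ, C.G.xu (rt 8) (((k : K) * θ (k : K))⁻¹ ^ j * ((e4 : K) * t1)) ∈ S := by
      intro j
      induction j with
      | zero => simpa using h8
      | succ j ih =>
        have := mul_mem (mul_mem hhS ih) (inv_mem hhS)
        rw [hh, C.G.torθ_conj_xu, hprod, g0, g5, zpow_neg_one, zpow_neg_one, ← mul_inv, ← mul_assoc,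
          ← pow_succ'] at this
        exact this
    refine ⟨(e2 : K) * ((e4 : K) * t1), mul_ne_zero e2.ne_zero (mul_ne_zero e4.ne_zero ht10),
      fun j => ?_⟩
    rw [mul_left_comm, ← he2, ← hn]
    exact mul_mem (mul_mem (pow_mem hnS 2) (hj8 j)) (inv_mem (pow_mem hnS 2))
  have hX1 : ∀ t ∈ Q.F k1, C.pP (Q.L k1) t ∈ S := by
    intro t ht
    show C.pP (outL θ k1) t ∈ S
    rw [pP1]
    by_cases h0 : t = 0
    · rw [h0, C.G.xu_zero]; exact one_mem _
    have ht' : θ t = t := (outF1 θ).1 ht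
    have ht0' : θ t0 = t0 := by
      have h39 := hstep 0
      rw [pow_zero, one_mul] at h39
      obtain ⟨u, hu', e⟩ := Q.complete k1 _ ⟨le_Fix θ hθ h2 (hSΓ h39), xu_mem_Uinv θ rfl t0⟩
      rw [show C.pP (Q.L k1) u = C.G.xu (rt 39) u from pP1 θ u] at e
      rw [C.G.xu_injective _ e]
      exact (outF1 θ).1 hu'
    obtain ⟨b, hb⟩ := exists_norm_eq (M := 1 + q) hq hK (by
      zify [h1q.le, Nat.one_le_pow _ _ (zero_lt_one.trans h1q)]
      ring) (Units.mk0 (t0 / t) (div_ne_zero ht00 h0)) (by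
        rw [Units.val_mk0, ← hθ, map_div₀, ht', ht0'])
    obtain ⟨j, rfl⟩ : ∃ j : ℕ, k ^ j = b :=
      (isOfFinOrder_of_finite k).mem_powers_iff_mem_zpowers.2 (hk b)
    have hv := congrArg Units.val hb
    rw [Units.val_pow_eq_pow_val, Units.val_mk0, Units.val_pow_eq_pow_val, ← pow_mul, mul_comm,
      pow_mul] at hv
    have := hstep j
    rwa [inv_pow, show ((k : K) * θ (k : K)) ^ j = t0 / t by rw [hθ, ← hv]; ring, inv_div,
      div_mul_cancel₀ t ht00] at this
  have hX0 : ∀ t ∈ Q.F k0, C.pP (Q.L k0) t ∈ S := fun t ht => by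
    refine TwTwoGen.pP_mem_of_map Q k1 k0 coxW 1 hnΓ hnS (fun a ha => ?_) hX1 ht
    simp only [Q, twPar, outL0, List.mem_singleton] at ha
    subst ha
    rw [coxW_val]
    exact ⟨nd 3, J3, by rw [s1, s3]; exact hw.2.2⟩
  intro o t ht
  rcases k_cases o with rfl | rfl | rfl | rfl
  · refine ⟨hX0 t ht, TwTwoGen.pN_mem_of_flip Q k0 coxW 6 hnΓ hnS (fun a ha => ?_) hX0 ht⟩
    simp only [Q, twPar, outL0, List.mem_singleton] at ha
    subst ha
    rw [coxW_val]
    exact ⟨nd 1, J1, by rw [s1, m46]; exact f0⟩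
  · refine ⟨hX1 t ht, TwTwoGen.pN_mem_of_flip Q k1 coxW 6 hnΓ hnS (fun a ha => ?_) hX1 ht⟩
    simp only [Q, twPar, outL1, List.mem_singleton] at ha
    subst ha
    rw [coxW_val]
    exact ⟨nd 3, J3, by rw [s3, m39]; exact f1⟩
  · refine ⟨hX2 t, TwTwoGen.pN_mem_of_flip Q k2 coxW 6 hnΓ hnS (fun a ha => ?_) (fun t _ => hX2 t) ht⟩
    simp only [Q, twPar, outL2, List.mem_cons, List.not_mem_nil, or_false] at ha
    rw [coxW_val]
    rcases ha with rfl | rfl
    · exact ⟨nd 4, J4, by rw [s2, m42, s4]; exact f2⟩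
    · exact ⟨nd 2, J2, by rw [s4, m37, s2]; exact f4⟩
  · refine ⟨hX3 t, TwTwoGen.pN_mem_of_flip Q k3 coxW 6 hnΓ hnS (fun a ha => ?_) (fun t _ => hX3 t) ht⟩
    simp only [Q, twPar, outL3, List.mem_cons, List.not_mem_nil, or_false] at ha
    rw [coxW_val]
    rcases ha with rfl | rfl
    · exact ⟨nd 5, J5, by rw [s0, m56, s5]; exact f3⟩
    · exact ⟨nd 0, J0, by rw [s5, m36, s0]; exact f5⟩

end TE6

end CfsgLib.Lie.Chev
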